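import Cfsg.Agent.H248.OC.Base
import Cfsg.Agent.H634.ElPSL

/-!
# One class of nontrivial `p`-elements: `PSL_m(F)`
-/

set_option autoImplicit false

open Cfsg Subgroup

namespace Cfsg.Agent.H248.OC

open Cfsg.Agent.H634.HypS Cfsg.Agent.H248.OC.Dim Cfsg.Agent.H634.Num
open Cfsg.Agent.H634.El (not_dvd_center natCast_ne_zero exists_order dvd_sub_one_of_pow dvd_add_one_of_pow
  zmod_ne_zero not_dvd_sub not_dvd_add_one exists_card prod_fin geom pow_dvd_card sl_center_pow sl_center_pow')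

variable {p n t : ℕ} {S : Type*} [Group S]

theorem sq_bound' {n : ℕ} (hn : 4 ≤ n) : (n + 2) * (n + 2) + 1 < 3 ^ n := by
  induction n, hn using Nat.le_induction with
  | base => norm_num
  | succ n hn ih =>
    rw [pow_succ]
    nlinarith

/-- `m² < t` for `p ∣ m ≤ n + 2`. -/
theorem Sit.bound_sq (s : Sit p n t S) {m : ℕ} (hm0 : 0 < m) (hpm : p ∣ m) (hm : m ≤ n + 2) : m * m < t := by
  have hp := s.p3
  have hn := s.n3
  have ht := s.ht
  rcases Nat.lt_or_ge n 4 with h5 | h5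
  · have h3 : n = 3 := by omega
    subst h3
    have h4 := Nat.le_of_dvd hm0 hpm
    have h6 : p ≤ 5 := by omega
    interval_cases p
    · have h7 : m = 3 := by
        obtain ⟨k, rfl⟩ := hpm
        omega
      subst h7
      omega
    · have h7 : m = 4 := by
        obtain ⟨k, rfl⟩ := hpm
        omega
      subst h7
      omega
    · have h7 : m = 5 := by omega
      subst h7
      omega
  · have h2 := sq_bound' h5
    have h3 : 3 ^ n ≤ p ^ n := Nat.pow_le_pow_left hp n
    have h4 : m * m ≤ (n + 2) * (n + 2) := Nat.mul_le_mul hm hm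
    omega

/-- Cross characteristic. -/
theorem psl_cross [hp : Fact p.Prime] (s : Sit p n t S) {F : Type*} [Field F] [Fintype F] {m : ℕ} (hm : 2 ≤ m)
    (hpF : ¬ p ∣ Fintype.card F) (e : S ≃* Matrix.ProjectiveSpecialLinearGroup (Fin m) F) : False := by
  classical
  set q := Fintype.card F with hq
  have hq1 : 1 < q := Fintype.one_lt_card
  have hcard := S0243.result (q := q) hq.symm m hm
  rw [← Nat.card_congr e.toEquiv, prod_fin] at hcard
  have hp3 := s.p3
  let ρ : Matrix.SpecialLinearGroup (Fin m) F →* Matrix (Fin m) (Fin m) F := slToMat m F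
  have hρ : Function.Injective ρ := fun a b hab => Subtype.ext hab
  have hpF' : (p : F) ≠ 0 := natCast_ne_zero hpF
  obtain ⟨d, hd0, hd, hd1, hd2⟩ := exists_order (zmod_ne_zero hpF)
  by_cases hpq : p ∣ q - 1
  · -- `p` divides `q - 1`
    have h1 : (q - 1) ^ (m - 2) ∣ Nat.card S := by
      refine pow_dvd_card (by omega) hm (Nat.gcd_dvd_right m (q - 1)) hcard fun i => geom _
    have h2 := s.le_of_dvd ((pow_dvd_pow_of_dvd hpq _).trans h1)
    by_cases hpm : p ∣ m
    · have h3 := s.bound_sq (by omega) hpm (by omega)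
      have h4 := le_sq_of_center hp.out s.dat e hpF' ρ hρ
      rw [Fintype.card_fin] at h4
      omega
    · refine s.cross e hpm (fun z hz => sl_center_pow z hz) hpF' ρ hρ ?_
      rw [Fintype.card_fin]
      have h5 : n + 1 ≤ (n + 1) * (p - 1) := Nat.le_mul_of_pos_right _ (by omega)
      omega
  · refine s.cross e hpq (fun z hz => sl_center_pow' (by omega) z hz) hpF' ρ hρ ?_
    rw [Fintype.card_fin]
    have h1 : p ^ (m / d) ∣ ∏ i ∈ Finset.range m, (q ^ (i + 1) - 1) := by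
      refine pow_dvd_prod (d := d) (fun j => q ^ j - 1) (fun k _ => ?_) m
      apply dvd_sub_one_of_pow hq1.le
      rw [pow_mul, hd1, one_pow]
    have h2 : p ^ (m / d) ∣ (Nat.gcd m (q - 1)) * ((q - 1) * Nat.card S) := by
      rw [hcard]
      exact h1.mul_left _
    have h3 : p ^ (m / d) ∣ Nat.card S := by
      have hc : (p ^ (m / d)).Coprime (q - 1) := Nat.Coprime.pow_left _ ((Nat.Prime.coprime_iff_not_dvd hp.out).2 hpq)
      have hc' : (p ^ (m / d)).Coprime (Nat.gcd m (q - 1)) := Nat.Coprime.coprime_dvd_right (Nat.gcd_dvd_right _ _) hc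
      exact hc.dvd_of_dvd_mul_left (hc'.dvd_of_dvd_mul_left h2)
    have h4 := s.le_of_dvd h3
    have h5 : d ≤ p - 1 := Nat.le_of_dvd (by omega) hd
    have h6 : m < (n + 1) * d := (Nat.div_lt_iff_lt_mul hd0).1 (by omega)
    have h7 : (n + 1) * d ≤ (n + 1) * (p - 1) := Nat.mul_le_mul_left _ h5
    omega

/-- `SL_3` in characteristic `p`. -/
theorem sl_three [hp : Fact p.Prime] (s : Sit p n t S) {F : Type*} [Field F] [CharP F p]
    (e : S ≃* Matrix.ProjectiveSpecialLinearGroup (Fin 3) F) : False := by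
  classical
  have hp3 := s.p3
  let M : Submonoid (Matrix.SpecialLinearGroup (Fin 3) F) :=
    { carrier := {A | A.1 1 0 = 0 ∧ A.1 2 0 = 0 ∧ A.1 2 1 = 0 ∧ A.1 0 0 = 1 ∧ A.1 1 1 = 1 ∧ A.1 2 2 = 1}
      one_mem' := by simp
      mul_mem' := by
        rintro A B ⟨h1, h2, h3, h4, h5, h6⟩ ⟨k1, k2, k3, k4, k5, k6⟩
        simp [Matrix.mul_apply, Fin.sum_univ_three, h1, h2, h3, h4, h5, h6, k1, k2, k3, k4, k5, k6] }
  have hM : ∀ A ∈ M, A ^ p = 1 := by
    rintro A ⟨h1, h2, h3, h4, h5, h6⟩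
    apply Subtype.ext
    rw [Matrix.SpecialLinearGroup.coe_pow, Matrix.SpecialLinearGroup.coe_one]
    have h7 : (A.1 - 1) ^ 3 = 0 := by
      ext i j
      fin_cases i <;> fin_cases j <;>
      simp [pow_succ, Matrix.mul_apply, Fin.sum_univ_three, h1, h2, h3, h4, h5, h6]
    have h8 : (A.1 - 1) ^ p = 0 := by
      obtain ⟨k, rfl⟩ : ∃ k, p = 3 + k := ⟨p - 3, by omega⟩
      rw [pow_add, h7, zero_mul]
    have h9 : A.1 = (A.1 - 1) + 1 := by rw [sub_add_cancel]
    rw [h9, add_pow_char_of_commute _ (Commute.one_right _), h8, one_pow, zero_add]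
  let U : Subgroup (Matrix.SpecialLinearGroup (Fin 3) F) :=
    { M with
      inv_mem' := by
        intro A hA
        have h1 : A⁻¹ = A ^ (p - 1) := by
          rw [inv_eq_iff_mul_eq_one, ← pow_succ']
          have h2 : p - 1 + 1 = p := by omega
          rw [h2]
          exact hM A hA
        change A⁻¹ ∈ M
        rw [h1]
        exact M.pow_mem hA _ }
  have hU : IsPGroup p U := fun A => ⟨1, by
    rw [pow_one]
    exact Subtype.ext (hM A.1 A.2)⟩
  let x : Matrix.SpecialLinearGroup (Fin 3) F := ⟨!![1, 1, 0; 0, 1, 0; 0, 0, 1], by simp [Matrix.det_fin_three]⟩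
  let y : Matrix.SpecialLinearGroup (Fin 3) F := ⟨!![1, 0, 0; 0, 1, 1; 0, 0, 1], by simp [Matrix.det_fin_three]⟩
  have hx : x ∈ U := by
    change _ ∧ _
    simp [x]
  have hy : y ∈ U := by
    change _ ∧ _
    simp [y]
  let π : Matrix.SpecialLinearGroup (Fin 3) F →* S :=
    e.symm.toMonoidHom.comp (QuotientGroup.mk' (center (Matrix.SpecialLinearGroup (Fin 3) F)))
  have h1 := s.h.comm (U.map π) (hU.map π) (π x) ⟨x, hx, rfl⟩ (π y) ⟨y, hy, rfl⟩
  rw [← map_mul, ← map_mul] at h1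
  have h2 := e.symm.injective h1
  have h3 : (x * y)⁻¹ * (y * x) ∈ center (Matrix.SpecialLinearGroup (Fin 3) F) := QuotientGroup.eq.1 h2
  obtain ⟨r, -, h4⟩ := Matrix.SpecialLinearGroup.mem_center_iff.1 h3
  have h5 : (x * y).1 * Matrix.scalar (Fin 3) r = (y * x).1 := by
    rw [h4, ← Matrix.SpecialLinearGroup.coe_mul, mul_inv_cancel_left]
  rw [Matrix.SpecialLinearGroup.coe_mul, Matrix.SpecialLinearGroup.coe_mul] at h5
  have h6 := congrFun (congrFun h5 0) 0
  have h7 := congrFun (congrFun h5 0) 2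
  simp [x, y, Matrix.mul_apply, Fin.sum_univ_three] at h6 h7
  rw [h6] at h7
  exact one_ne_zero h7

/-- Defining characteristic. -/
theorem psl_defining [hp : Fact p.Prime] (s : Sit p n t S) {F : Type*} [Field F] [Fintype F] {m : ℕ} (hm : 2 ≤ m)
    (hpF : p ∣ Fintype.card F) (e : S ≃* Matrix.ProjectiveSpecialLinearGroup (Fin m) F) :
    m = 2 ∧ Fintype.card F = p ^ n := by
  obtain ⟨f, hf1, hf, hF⟩ := exists_card hpF
  set q := Fintype.card F with hq
  have hq1 : 1 < q := Fintype.one_lt_card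
  have hcard := S0243.result (q := q) hq.symm m hm
  rw [← Nat.card_congr e.toEquiv, prod_fin] at hcard
  have hs : ∀ k, 1 ≤ k → ¬ p ∣ q ^ k - 1 := fun k hk => not_dvd_sub hp.out hpF hq1.le hk
  have hs1 : ¬ p ∣ q - 1 := by simpa using hs 1 le_rfl
  have hc : ¬ p ∣ Nat.gcd m (q - 1) * (q - 1) := by
    intro h
    rcases (Nat.Prime.dvd_mul hp.out).1 h with h | h
    · exact hs1 (h.trans (Nat.gcd_dvd_right _ _))
    · exact hs1 h
  have hB : ¬ p ∣ ∏ i ∈ Finset.range m, (q ^ (i + 1) - 1) := by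
    rw [Prime.dvd_finsetProd_iff hp.out.prime]
    rintro ⟨i, -, h⟩
    exact hs _ (by omega) h
  have h0 : Nat.gcd m (q - 1) * (q - 1) * Nat.card S =
      p ^ (f * (m * (m - 1) / 2)) * ∏ i ∈ Finset.range m, (q ^ (i + 1) - 1) := by
    rw [mul_assoc, hcard, hf, ← pow_mul]
  have hn := s.eq_of_card h0 hc hB
  obtain ⟨r, hr, h1, h2, h3⟩ := s.exists_prime h0 dvd_rfl s.n3
  rw [Prime.dvd_finsetProd_iff hr.prime] at h1
  obtain ⟨i, hi, h4⟩ := h1
  rw [Finset.mem_range] at hi
  rw [hf, ← pow_mul, h2, hn] at h4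
  have h5 : m * (m - 1) / 2 ∣ i + 1 := Nat.dvd_of_mul_dvd_mul_left (by omega) h4
  have h6 := Nat.le_of_dvd (by omega) h5
  have h7 : m ≤ 3 := by
    by_contra h8
    have h9 : m * 3 ≤ m * (m - 1) := Nat.mul_le_mul_left _ (by omega)
    omega
  rcases (by omega : m = 2 ∨ m = 3) with rfl | rfl
  · refine ⟨rfl, ?_⟩
    rw [hf, hn]
    norm_num
  · exact (sl_three s e).elim

end Cfsg.Agent.H248.OC
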